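/-
Sylow subgroups of a normal subgroup that is the product of two commuting factors.

* `pairs`: the product of two commuting subgroups
* `split`: a Sylow subgroup meets such a product in the product of the intersections
* `card_inf_factor`: and meets each factor in a subgroup of full `p`-power order
* `diag`: the sum of the conjugates of an element
-/
import Cfsg.Agent.EqLemmas
import Cfsg.Agent.Lib.MaxClassSylow.Global

set_option autoImplicit false
set_option linter.unusedSectionVars false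
set_option linter.style.haveILetI false

open Subgroup
open scoped commutatorElement

universe u

namespace Cfsg.Agent.AbelianizationSq

variable {G : Type u} [Group G]

/-- The product of two commuting subgroups. -/
def pairs (U V : Subgroup G) (h : ∀ a ∈ U, ∀ b ∈ V, a * b = b * a) : Subgroup G where
  carrier := {g | ∃ u ∈ U, ∃ v ∈ V, u * v = g}
  one_mem' := ⟨1, one_mem _, 1, one_mem _, one_mul 1⟩
  mul_mem' := by
    rintro _ _ ⟨u, hu, v, hv, rfl⟩ ⟨u', hu', v', hv', rfl⟩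
    refine ⟨u * u', mul_mem hu hu', v * v', mul_mem hv hv', ?_⟩
    calc u * u' * (v * v') = u * (u' * v) * v' := by group
      _ = u * (v * u') * v' := by rw [h u' hu' v hv]
      _ = u * v * (u' * v') := by group
  inv_mem' := by
    rintro _ ⟨u, hu, v, hv, rfl⟩
    exact ⟨u⁻¹, inv_mem hu, v⁻¹, inv_mem hv, by rw [h _ (inv_mem hu) _ (inv_mem hv), mul_inv_rev]⟩

theorem sup_le_pairs (U V : Subgroup G) (h : ∀ a ∈ U, ∀ b ∈ V, a * b = b * a) : U ⊔ V ≤ pairs U V h :=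
  sup_le (fun u hu => ⟨u, hu, 1, one_mem _, mul_one u⟩) (fun v hv => ⟨1, one_mem _, v, hv, one_mul v⟩)

theorem exists_mem_sup {U V : Subgroup G} (h : ∀ a ∈ U, ∀ b ∈ V, a * b = b * a) {g : G} (hg : g ∈ U ⊔ V) :
    ∃ u ∈ U, ∃ v ∈ V, u * v = g :=
  sup_le_pairs U V h hg

theorem eq_of_mul_eq {U V : Subgroup G} (hd : U ⊓ V = ⊥) {u u' v v' : G} (hu : u ∈ U) (hu' : u' ∈ U)
    (hv : v ∈ V) (hv' : v' ∈ V) (e : u * v = u' * v') : u = u' ∧ v = v' :=
  Prod.ext_iff.mp (Subgroup.mul_injective_of_disjoint (disjoint_iff.mpr hd)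
    (a₁ := ((⟨u, hu⟩ : U), (⟨v, hv⟩ : V))) (a₂ := (⟨u', hu'⟩, ⟨v', hv'⟩)) e) |>.imp
      (congrArg Subtype.val) (congrArg Subtype.val)

theorem card_sup_commute {U V : Subgroup G} (h : ∀ a ∈ U, ∀ b ∈ V, a * b = b * a) (hd : U ⊓ V = ⊥) :
    Nat.card ↥(U ⊔ V) = Nat.card U * Nat.card V := by
  rw [← Nat.card_prod]
  symm
  refine Nat.card_congr (Equiv.ofBijective
    (fun w : U × V => (⟨(w.1 : G) * w.2, mul_mem (mem_sup_left w.1.2) (mem_sup_right w.2.2)⟩ : ↥(U ⊔ V))) ⟨?_, ?_⟩)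
  · exact fun a b e => Subgroup.mul_injective_of_disjoint (disjoint_iff.mpr hd) (congrArg Subtype.val e)
  · rintro ⟨g, hg⟩
    obtain ⟨u, hu, v, hv, rfl⟩ := exists_mem_sup h hg
    exact ⟨(⟨u, hu⟩, ⟨v, hv⟩), rfl⟩

variable [Finite G] {p : ℕ} [hp : Fact p.Prime]

theorem card_inf (N : Subgroup G) [N.Normal] (P : Sylow p G) :
    Nat.card ↥((P : Subgroup G) ⊓ N) = p ^ (Nat.card N).factorization p := by
  rw [← MaxClassSylow.card_inf_sylow N P]
  exact Nat.card_congr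
    { toFun := fun u => ⟨⟨u.1, u.2.2⟩, u.2.1⟩
      invFun := fun u => ⟨u.1.1, u.2, u.1.2⟩
      left_inv := fun _ => rfl
      right_inv := fun _ => rfl }

theorem card_le_inf (N : Subgroup G) [N.Normal] (P : Sylow p G) {W : Subgroup G} (hW : IsPGroup p W) (hWN : W ≤ N) :
    Nat.card W ≤ Nat.card ↥((P : Subgroup G) ⊓ N) := by
  obtain ⟨Q, hQ⟩ := hW.exists_le_sylow
  have h := Subgroup.card_le_of_le (le_inf hQ hWN)
  rwa [card_inf N Q, ← card_inf N P] at h

theorem split (P : Sylow p G) {N U V : Subgroup G} [N.Normal] (h : ∀ a ∈ U, ∀ b ∈ V, a * b = b * a)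
    (hd : U ⊓ V = ⊥) (hN : U ⊔ V = N) {a : G} (haP : a ∈ (P : Subgroup G)) (haN : a ∈ N) :
    ∃ u ∈ U, ∃ v ∈ V, u ∈ (P : Subgroup G) ∧ v ∈ (P : Subgroup G) ∧ u * v = a := by
  set S := (P : Subgroup G) ⊓ N
  have hmul : ∀ {u u' v v' : G}, u ∈ U → u' ∈ U → v ∈ V → v' ∈ V → u * u' * (v * v') = u * v * (u' * v') :=
    fun {u u' v v'} _ hu' hv _ => by
      calc u * u' * (v * v') = u * (u' * v) * v' := by group
        _ = u * (v * u') * v' := by rw [h u' hu' v hv]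
        _ = _ := by group
  let U' : Subgroup G :=
    { carrier := {u | u ∈ U ∧ ∃ v ∈ V, u * v ∈ S}
      one_mem' := ⟨one_mem _, 1, one_mem _, by simp⟩
      mul_mem' := by
        rintro u u' ⟨hu, v, hv, hs⟩ ⟨hu', v', hv', hs'⟩
        refine ⟨mul_mem hu hu', v * v', mul_mem hv hv', ?_⟩
        rw [hmul hu hu' hv hv']; exact mul_mem hs hs'
      inv_mem' := by
        rintro u ⟨hu, v, hv, hs⟩
        refine ⟨inv_mem hu, v⁻¹, inv_mem hv, ?_⟩
        rw [h _ (inv_mem hu) _ (inv_mem hv), ← mul_inv_rev]; exact inv_mem hs }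
  let V' : Subgroup G :=
    { carrier := {v | v ∈ V ∧ ∃ u ∈ U, u * v ∈ S}
      one_mem' := ⟨one_mem _, 1, one_mem _, by simp⟩
      mul_mem' := by
        rintro v v' ⟨hv, u, hu, hs⟩ ⟨hv', u', hu', hs'⟩
        refine ⟨mul_mem hv hv', u * u', mul_mem hu hu', ?_⟩
        rw [hmul hu hu' hv hv']; exact mul_mem hs hs'
      inv_mem' := by
        rintro v ⟨hv, u, hu, hs⟩
        refine ⟨inv_mem hv, u⁻¹, inv_mem hu, ?_⟩
        rw [h _ (inv_mem hu) _ (inv_mem hv), ← mul_inv_rev]; exact inv_mem hs }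
  let W := pairs U' V' (fun a ha b hb => h a ha.1 b hb.1)
  have hpow : ∀ g ∈ S, ∃ k : ℕ, g ^ p ^ k = 1 := fun g hg => by
    obtain ⟨k, hk⟩ := P.isPGroup' ⟨g, hg.1⟩
    exact ⟨k, congrArg Subtype.val hk⟩
  have hW : IsPGroup p W := by
    rintro ⟨w, u, ⟨hu, v, hv, hs⟩, v', ⟨hv', u', hu', hs'⟩, rfl⟩
    obtain ⟨k, hk⟩ := hpow _ hs
    obtain ⟨l, hl⟩ := hpow _ hs'
    refine ⟨k + l, Subtype.ext ?_⟩
    rw [(show Commute u v from h u hu v hv).mul_pow] at hk
    rw [(show Commute u' v' from h u' hu' v' hv').mul_pow] at hl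
    have h1 := eq_of_mul_eq hd (pow_mem hu _) (one_mem _) (pow_mem hv _) (one_mem _) (hk.trans (one_mul 1).symm)
    have h2 := eq_of_mul_eq hd (pow_mem hu' _) (one_mem _) (pow_mem hv' _) (one_mem _) (hl.trans (one_mul 1).symm)
    show (u * v') ^ p ^ (k + l) = 1
    rw [(show Commute u v' from h u hu v' hv').mul_pow, pow_add, pow_mul, h1.1, one_pow,
      mul_comm (p ^ k), pow_mul, h2.2, one_pow, mul_one]
  have hWN : W ≤ N := by
    rintro _ ⟨u, hu, v, hv, rfl⟩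
    rw [← hN]; exact mul_mem (mem_sup_left hu.1) (mem_sup_right hv.1)
  have hSW : S ≤ W := by
    intro g hg
    obtain ⟨u, hu, v, hv, rfl⟩ := exists_mem_sup h (hN.symm ▸ hg.2 : g ∈ U ⊔ V)
    exact ⟨u, ⟨hu, v, hv, hg⟩, v, ⟨hv, u, hu, hg⟩, rfl⟩
  have hWS : W = S := (Subgroup.eq_of_le_of_card_ge hSW (card_le_inf N P hW hWN)).symm
  obtain ⟨u, hu, v, hv, rfl⟩ := exists_mem_sup h (hN.symm ▸ haN : a ∈ U ⊔ V)
  have hS : u * v ∈ S := ⟨haP, haN⟩
  have hu' : u ∈ W := ⟨u, ⟨hu, v, hv, hS⟩, 1, one_mem _, mul_one u⟩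
  have hv' : v ∈ W := ⟨1, one_mem _, v, ⟨hv, u, hu, hS⟩, one_mul v⟩
  rw [hWS] at hu' hv'
  exact ⟨u, hu, v, hv, hu'.1, hv'.1, rfl⟩

theorem card_inf_factor (P : Sylow p G) {N U V : Subgroup G} [N.Normal] (h : ∀ a ∈ U, ∀ b ∈ V, a * b = b * a)
    (hd : U ⊓ V = ⊥) (hN : U ⊔ V = N) :
    Nat.card ↥((P : Subgroup G) ⊓ U) = p ^ (Nat.card U).factorization p := by
  set A := (P : Subgroup G) ⊓ U
  set B := (P : Subgroup G) ⊓ V
  have hAB : ∀ a ∈ A, ∀ b ∈ B, a * b = b * a := fun a ha b hb => h a ha.2 b hb.2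
  have hABd : A ⊓ B = ⊥ := le_bot_iff.mp ((inf_le_inf inf_le_right inf_le_right).trans hd.le)
  have hS : (P : Subgroup G) ⊓ N = A ⊔ B := by
    refine le_antisymm (fun a ha => ?_) (sup_le ?_ ?_)
    · obtain ⟨u, hu, v, hv, huP, hvP, rfl⟩ := split P h hd hN ha.1 ha.2
      exact mul_mem (mem_sup_left ⟨huP, hu⟩) (mem_sup_right ⟨hvP, hv⟩)
    · exact inf_le_inf_left _ (le_sup_left.trans hN.le)
    · exact inf_le_inf_left _ (le_sup_right.trans hN.le)
  have h1 : p ^ (Nat.card N).factorization p = Nat.card A * Nat.card B := by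
    rw [← card_inf N P, hS, card_sup_commute hAB hABd]
  have h2 : Nat.card N = Nat.card U * Nat.card V := by rw [← hN, card_sup_commute h hd]
  rw [h2, Nat.factorization_mul Nat.card_pos.ne' Nat.card_pos.ne', Finsupp.add_apply, pow_add] at h1
  have key : ∀ W : Subgroup G, IsPGroup p ↥((P : Subgroup G) ⊓ W) ∧
      Nat.card ↥((P : Subgroup G) ⊓ W) ≤ p ^ (Nat.card W).factorization p := by
    intro W
    have hP : IsPGroup p ↥((P : Subgroup G) ⊓ W) := P.isPGroup'.to_le inf_le_left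
    obtain ⟨k, hk⟩ := IsPGroup.iff_card.mp hP
    refine ⟨hP, ?_⟩
    rw [hk]
    refine Nat.pow_le_pow_right hp.out.pos ((hp.out.pow_dvd_iff_le_factorization Nat.card_pos.ne').mp ?_)
    rw [← hk]; exact Subgroup.card_dvd_of_le inf_le_right
  refine le_antisymm (key U).2 ?_
  refine Nat.le_of_mul_le_mul_right ?_ (Nat.card_pos (α := B))
  rw [← h1]
  exact Nat.mul_le_mul_left _ (key V).2

/-- `q * (x q x⁻¹) * ⋯` with `i` factors. -/
def diag {X : Type u} [Group X] (x : X) : ℕ → X → X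
  | 0, _ => 1
  | i + 1, q => q * (x * diag x i q * x⁻¹)

theorem diag_succ {X : Type u} [Group X] (x q : X) : ∀ i : ℕ,
    diag x (i + 1) q = diag x i q * (x ^ i * q * (x ^ i)⁻¹)
  | 0 => by simp [diag]
  | i + 1 => by
    show q * (x * diag x (i + 1) q * x⁻¹) = q * (x * diag x i q * x⁻¹) * (x ^ (i + 1) * q * (x ^ (i + 1))⁻¹)
    rw [diag_succ x q i, pow_succ']
    group

theorem map_diag {X Y : Type u} [Group X] [Group Y] (f : X →* Y) (x q : X) : ∀ i : ℕ,
    f (diag x i q) = diag (f x) i (f q)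
  | 0 => map_one f
  | i + 1 => by
    show f (q * (x * diag x i q * x⁻¹)) = f q * (f x * diag (f x) i (f q) * (f x)⁻¹)
    rw [map_mul, map_mul, map_mul, map_inv, map_diag f x q i]

theorem diag_mem {X : Type u} [Group X] {A : Subgroup X} [hA : A.Normal] (x : X) {q : X} (hq : q ∈ A) :
    ∀ i : ℕ, diag x i q ∈ A
  | 0 => one_mem A
  | i + 1 => mul_mem hq (hA.conj_mem _ (diag_mem x hq i) x)

theorem diag_mul {X : Type u} [Group X] {A : Subgroup X} [hA : A.Normal]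
    (hc : ∀ a ∈ A, ∀ b ∈ A, a * b = b * a) (x : X) {a b : X} (ha : a ∈ A) (hb : b ∈ A) :
    ∀ i : ℕ, diag x i (a * b) = diag x i a * diag x i b
  | 0 => (mul_one 1).symm
  | i + 1 => by
    show a * b * (x * diag x i (a * b) * x⁻¹) = a * (x * diag x i a * x⁻¹) * (b * (x * diag x i b * x⁻¹))
    rw [diag_mul hc x ha hb i]
    have h1 : b * (x * diag x i a * x⁻¹) = (x * diag x i a * x⁻¹) * b :=
      hc b hb _ (hA.conj_mem _ (diag_mem x ha i) x)
    calc a * b * (x * (diag x i a * diag x i b) * x⁻¹)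
        = a * (b * (x * diag x i a * x⁻¹)) * (x * diag x i b * x⁻¹) := by group
      _ = a * ((x * diag x i a * x⁻¹) * b) * (x * diag x i b * x⁻¹) := by rw [h1]
      _ = _ := by group

theorem diag_fixed {X : Type u} [Group X] {A : Subgroup X} [hA : A.Normal]
    (hc : ∀ a ∈ A, ∀ b ∈ A, a * b = b * a) {x : X} {m : ℕ} (hx : x ^ m ∈ A) {q : X} (hq : q ∈ A) :
    x * diag x m q * x⁻¹ = diag x m q := by
  have h1 := diag_succ x q m
  have h2 : x ^ m * q * (x ^ m)⁻¹ = q := by rw [hc _ hx q hq, mul_inv_cancel_right]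
  rw [h2, hc _ (diag_mem x hq m) q hq] at h1
  exact mul_left_cancel h1

end Cfsg.Agent.AbelianizationSq
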