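/-
`p`-groups whose derived subgroup has index `p ^ 2`.

* `isCyclic_of_index`: derived subgroup of index `p` means cyclic
* `index_of_not_le`: normal subgroups outside the derived subgroup have index at most `p`
* `card_centralizer`: with an abelian subgroup `A` of index `p`, elements outside `A` have centralizer of order `p ^ 2`
* `false_of_split`, `comm_of_split`: an index `p` (or `1`) subgroup does not split into invariant factors
-/
import Cfsg.Agent.EqLemmas
import Cfsg.Agent.Lib.PGroup.Basic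

set_option autoImplicit false
set_option linter.unusedSectionVars false
set_option linter.style.haveILetI false

open Subgroup
open scoped commutatorElement

universe u

namespace Cfsg.Agent.AbelianizationSq

variable {X : Type u} [Group X] [Finite X] {p : ℕ} [hp : Fact p.Prime] (hX : IsPGroup p X)

include hX

theorem isCyclic_of_index (h : (commutator X).index = p) : IsCyclic X := by
  obtain ⟨x, -, hx⟩ := SetLike.exists_of_lt (lt_top_iff_ne_top.mpr (fun e : commutator X = ⊤ =>
    hp.out.ne_one (by rw [← h, e, index_top])))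
  refine PGroup.isCyclic_of_sup_frattini (x := x) (top_le_iff.mp ?_)
  refine le_trans ?_ (sup_le_sup_left (PGroup.commutator_le_frattini hX) (zpowers x))
  have hcard : Nat.card (X ⧸ commutator X) = p := by rw [← index_eq_card, h]
  intro g _
  have h1 : zpowers ((x : X) : X ⧸ commutator X) = ⊤ :=
    zpowers_eq_top_of_prime_card hcard fun e => hx ((QuotientGroup.eq_one_iff _).mp e)
  obtain ⟨k, hk⟩ := mem_zpowers_iff.mp (h1 ▸ mem_top (g : X ⧸ commutator X))
  have h2 : (x ^ k)⁻¹ * g ∈ commutator X :=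
    QuotientGroup.eq.mp (by rw [QuotientGroup.mk_zpow]; exact hk)
  have := mul_mem (mem_sup_left (T := commutator X) (zpow_mem (mem_zpowers x) k)) (mem_sup_right h2)
  rwa [mul_inv_cancel_left] at this

theorem commutator_ne_top [Nontrivial X] : commutator X ≠ ⊤ := fun h => by
  have hf := PGroup.commutator_le_frattini hX
  rw [h, top_le_iff] at hf
  have hc : IsCyclic X := PGroup.isCyclic_of_sup_frattini (x := (1 : X)) (by rw [hf, sup_top_eq])
  have hb : commutator X = ⊥ := by
    rw [_root_.commutator_def, eq_bot_iff, commutator_le]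
    intro a _ b _
    rw [mem_bot, commutatorElement_eq_one_iff_mul_comm]
    exact IsCyclic.commGroup.mul_comm a b
  exact top_ne_bot (h.symm.trans hb)

theorem index_of_not_le (hidx : (commutator X).index = p ^ 2) {A : Subgroup X} [A.Normal]
    (hA : ¬ A ≤ commutator X) : A = ⊤ ∨ (A.index = p ∧ commutator X ≤ A) := by
  obtain ⟨r, hr2, hr⟩ := (Nat.dvd_prime_pow hp.out).mp
    (hidx ▸ index_dvd_of_le (le_sup_right : commutator X ≤ A ⊔ commutator X))
  interval_cases r
  · left
    rw [pow_zero, index_eq_one] at hr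
    refine PGroup.eq_top_of_sup_frattini (top_le_iff.mp ?_)
    exact hr.ge.trans (sup_le_sup_left (PGroup.commutator_le_frattini hX) _)
  · right
    rw [pow_one] at hr
    have hQ : (commutator (X ⧸ A)).index = p := by
      have h1 : (commutator X).map (QuotientGroup.mk' A) = commutator (X ⧸ A) := by
        rw [_root_.commutator_def, _root_.commutator_def, map_commutator,
          map_top_of_surjective _ (QuotientGroup.mk'_surjective A)]
      rw [← h1, index_map, QuotientGroup.ker_mk', sup_comm, hr,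
        MonoidHom.range_eq_top.mpr (QuotientGroup.mk'_surjective A), index_top, mul_one]
    haveI := isCyclic_of_index (hX.to_quotient A) hQ
    have hle : commutator X ≤ A := by
      rw [_root_.commutator_def, commutator_le]
      intro a _ b _
      rw [← QuotientGroup.eq_one_iff, ← QuotientGroup.mk'_apply, map_commutatorElement,
        commutatorElement_eq_one_iff_mul_comm]
      exact IsCyclic.commGroup.mul_comm _ _
    rw [sup_eq_left.mpr hle] at hr
    exact ⟨hr, hle⟩
  · exfalso
    apply hA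
    have : commutator X = A ⊔ commutator X := by
      refine eq_of_le_of_card_ge le_sup_right ?_
      have e1 := (commutator X).card_mul_index
      have e2 := (A ⊔ commutator X).card_mul_index
      rw [hidx] at e1; rw [hr] at e2
      exact (Nat.eq_of_mul_eq_mul_right (pow_pos hp.out.pos 2) (e2.trans e1.symm)).le
    exact le_sup_left.trans this.ge

/-- An abelian subgroup `A` of index `p` and `x` outside it. -/
theorem card_centralizer (hidx : (commutator X).index = p ^ 2) {A : Subgroup X} [hAn : A.Normal]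
    (hAi : A.index = p) (hA : ∀ a ∈ A, ∀ b ∈ A, a * b = b * a) {x : X} (hx : x ∉ A) :
    Nat.card (centralizer ({x} : Set X)) = p ^ 2 ∧
      Nat.card ↥(A ⊓ centralizer ({x} : Set X)) = p := by
  have hmem : ∀ a ∈ A, ⁅a, x⁆ ∈ A := fun a ha => by
    rw [commutatorElement_def, mul_assoc, mul_assoc, ← mul_assoc x]
    exact mul_mem ha (hAn.conj_mem _ (inv_mem ha) x)
  let φ : A →* X := MonoidHom.mk' (fun a => ⁅(a : X), x⁆) (fun a b => by
    have h1 : ⁅((a * b : A) : X), x⁆ = (a : X) * ⁅(b : X), x⁆ * (a : X)⁻¹ * ⁅(a : X), x⁆ := by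
      simp only [Subgroup.coe_mul, commutatorElement_def]; group
    rw [h1, hA _ a.2 _ (hmem b b.2), mul_inv_cancel_right, hA _ (hmem b b.2) _ (hmem a a.2)])
  have hKA : φ.range ≤ A := by rintro _ ⟨a, rfl⟩; exact hmem a a.2
  have hcover : ∀ g : X, ∃ a ∈ A, ∃ k : ℤ, g = a * x ^ k := by
    intro g
    have h1 : zpowers ((x : X) : X ⧸ A) = ⊤ := zpowers_eq_top_of_prime_card
      (show Nat.card (X ⧸ A) = p by rw [← index_eq_card, hAi]) fun e => hx ((QuotientGroup.eq_one_iff _).mp e)
    obtain ⟨k, hk⟩ := mem_zpowers_iff.mp (h1 ▸ mem_top (g : X ⧸ A))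
    refine ⟨g * (x ^ k)⁻¹, ?_, k, by group⟩
    rw [← QuotientGroup.eq_one_iff, QuotientGroup.mk_mul, QuotientGroup.mk_inv, QuotientGroup.mk_zpow, hk,
      mul_inv_cancel]
  -- the image is normal
  haveI hKn : φ.range.Normal := by
    have hx' : φ.range.map (MulAut.conj x).toMonoidHom ≤ φ.range := by
      rintro _ ⟨_, ⟨a, rfl⟩, rfl⟩
      exact ⟨⟨x * a * x⁻¹, hAn.conj_mem _ a.2 x⟩, by
        show ⁅x * (a : X) * x⁻¹, x⁆ = x * ⁅(a : X), x⁆ * x⁻¹
        simp only [commutatorElement_def]; group⟩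
    have hxn : x ∈ normalizer (φ.range : Set X) := by
      rw [mem_normalizer_iff_map_conj_eq]
      refine eq_of_le_of_card_ge hx' ?_
      rw [card_map_of_injective (MulEquiv.injective _)]
    have hAn' : A ≤ normalizer (φ.range : Set X) := fun a ha => mem_normalizer_iff.mpr fun k => by
      constructor
      · intro hk
        rwa [hA a ha k (hKA hk), mul_inv_cancel_right]
      · intro hk
        have h1 := hA a ha _ (hKA hk)
        have h2 : a * k * a⁻¹ = k := by
          rwa [inv_mul_cancel_right, mul_right_inj] at h1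
        rwa [h2] at hk
    refine normalizer_eq_top_iff.mp (top_le_iff.mp fun g _ => ?_)
    obtain ⟨a, ha, k, rfl⟩ := hcover g
    exact mul_mem (hAn' ha) (zpow_mem hxn k)
  have hcomm : commutator X ≤ φ.range := by
    rw [_root_.commutator_def, commutator_le]
    intro g _ h _
    rw [← QuotientGroup.eq_one_iff, ← QuotientGroup.mk'_apply, map_commutatorElement,
      commutatorElement_eq_one_iff_mul_comm]
    obtain ⟨a, ha, i, rfl⟩ := hcover g
    obtain ⟨b, hb, j, rfl⟩ := hcover h
    set q := QuotientGroup.mk' φ.range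
    have hax : ∀ a ∈ A, Commute (q a) (q x) := fun a ha => by
      rw [commute_iff_eq, ← commutatorElement_eq_one_iff_mul_comm, ← map_commutatorElement]
      exact (QuotientGroup.eq_one_iff _).mpr ⟨⟨a, ha⟩, rfl⟩
    have h1 : Commute (q a) (q b) := (show Commute a b from hA a ha b hb).map q
    have h2 := (hax a ha).zpow_right j
    have h3 := ((hax b hb).zpow_right i).symm
    have h4 := (Commute.refl (q x)).zpow_zpow i j
    rw [map_mul, map_mul, map_zpow, map_zpow]
    exact ((h1.mul_right h2).mul_left (h3.mul_right h4)).eq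
  have hle : φ.range ≤ commutator X := by
    rintro _ ⟨a, rfl⟩
    rw [_root_.commutator_def]
    exact commutator_mem_commutator (mem_top _) (mem_top _)
  have hKeq : φ.range = commutator X := le_antisymm hle hcomm
  have hker : Nat.card φ.ker = p := by
    have e1 := φ.ker.card_mul_index
    rw [Subgroup.index_ker, hKeq] at e1
    have e2 := (commutator X).card_mul_index
    have e3 := A.card_mul_index
    rw [hidx] at e2; rw [hAi, ← e1] at e3
    refine Nat.eq_of_mul_eq_mul_left (Nat.mul_pos (Nat.card_pos (α := ↥(commutator X))) hp.out.pos) ?_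
    calc Nat.card ↥(commutator X) * p * Nat.card φ.ker
        = Nat.card φ.ker * Nat.card ↥(commutator X) * p := by ring
      _ = Nat.card ↥(commutator X) * p * p := by rw [e3, ← e2]; ring
  set C := centralizer ({x} : Set X) with hC
  have hAC : Nat.card ↥(A ⊓ C) = p := by
    rw [← hker]
    refine Nat.card_congr
      { toFun := fun u => ⟨⟨u, u.2.1⟩, ?_⟩
        invFun := fun u => ⟨(u : A), (u : A).2, ?_⟩
        left_inv := fun _ => rfl
        right_inv := fun _ => rfl }
    · exact commutatorElement_eq_one_iff_mul_comm.mpr (mem_centralizer_singleton_iff.mp u.2.2)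
    · exact mem_centralizer_singleton_iff.mpr (commutatorElement_eq_one_iff_mul_comm.mp u.2)
  refine ⟨?_, hAC⟩
  have h1 := (A.subgroupOf C).card_mul_index
  have h2 : Nat.card (A.subgroupOf C) = p := by
    refine Eq.trans ?_ hAC
    exact Nat.card_congr
      { toFun := fun u => ⟨u.1.1, u.2, u.1.2⟩
        invFun := fun u => ⟨⟨u.1, u.2.2⟩, u.2.1⟩
        left_inv := fun _ => rfl
        right_inv := fun _ => rfl }
  have h3 : (A.subgroupOf C).index = p := by
    have h4 : A.relIndex C ∣ p := hAi ▸ relIndex_dvd_index_of_normal A C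
    refine ((Nat.dvd_prime hp.out).mp h4).resolve_left fun h => hx ?_
    exact relIndex_eq_one.mp h (mem_centralizer_singleton_iff.mpr rfl)
  rw [h2, h3] at h1
  rw [← h1, sq]

omit hX in
theorem commutator_top_mono_lower {U : Subgroup X} (h : U ≤ ⁅U, (⊤ : Subgroup X)⁆) :
    ∀ i, U ≤ (⊤ : Subgroup X).lowerCentralSeries i := by
  intro i
  induction i with
  | zero => exact le_top
  | succ i ih =>
    rw [Subgroup.lowerCentralSeries_succ]
    exact h.trans (commutator_mono ih le_rfl)

theorem mul_card_commutator_le {U : Subgroup X} [hU : U.Normal] (hne : U ≠ ⊥) :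
    p * Nat.card ↥⁅U, (⊤ : Subgroup X)⁆ ≤ Nat.card U := by
  refine PGroup.mul_card_le_of_lt hX (lt_of_le_of_ne (commutator_le_left U ⊤) fun h => hne ?_)
  haveI := hX.isNilpotent
  obtain ⟨i, hi⟩ := Subgroup.nilpotent_iff_lowerCentralSeries.mp (inferInstance : Group.IsNilpotent X)
  exact le_bot_iff.mp (hi ▸ commutator_top_mono_lower h.ge i)

omit hX in
theorem commute_of_disjoint {U V : Subgroup X} [U.Normal] [V.Normal] (hd : U ⊓ V = ⊥) {a b : X}
    (ha : a ∈ U) (hb : b ∈ V) : a * b = b * a :=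
  Subgroup.commute_of_normal_of_disjoint U V inferInstance inferInstance (disjoint_iff.mpr hd) a b ha hb

omit hX in
theorem card_sup_normal {U V : Subgroup X} [U.Normal] [V.Normal] (hd : U ⊓ V = ⊥) :
    Nat.card ↥(U ⊔ V) = Nat.card U * Nat.card V := by
  rw [← Nat.card_prod]
  symm
  refine Nat.card_congr (Equiv.ofBijective
    (fun w : U × V => (⟨(w.1 : X) * w.2, mul_mem (mem_sup_left w.1.2) (mem_sup_right w.2.2)⟩ : ↥(U ⊔ V))) ⟨?_, ?_⟩)
  · exact fun a b h => Subgroup.mul_injective_of_disjoint (disjoint_iff.mpr hd) (congrArg Subtype.val h)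
  · rintro ⟨g, hg⟩
    obtain ⟨a, ha, b, hb, rfl⟩ := mem_sup_of_normal_right.mp hg
    exact ⟨(⟨a, ha⟩, ⟨b, hb⟩), rfl⟩

/-- An index `p` subgroup is not the product of two non-trivial normal subgroups. -/
theorem false_of_split (hidx : (commutator X).index = p ^ 2) {A U V : Subgroup X} [A.Normal] (hAi : A.index = p)
    [U.Normal] [V.Normal] (hU : U ≠ ⊥) (hV : V ≠ ⊥) (hd : U ⊓ V = ⊥) (hsup : U ⊔ V = A) : False := by
  obtain ⟨x, -, hx⟩ := SetLike.exists_of_lt (lt_top_iff_ne_top.mpr (fun e : A = ⊤ =>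
    hp.out.ne_one (by rw [← hAi, e, index_top])))
  set K := ⁅U, (⊤ : Subgroup X)⁆ ⊔ ⁅V, (⊤ : Subgroup X)⁆
  set q := QuotientGroup.mk' K
  have hcen : ∀ a ∈ A, ∀ g, Commute (q a) g := by
    intro a ha g
    obtain ⟨g, rfl⟩ := QuotientGroup.mk'_surjective K g
    rw [← hsup] at ha
    obtain ⟨u, hu, v, hv, rfl⟩ := mem_sup_of_normal_right.mp ha
    have key : ∀ w : X, ⁅w, g⁆ ∈ K → Commute (q w) (q g) := fun w hw => by
      rw [commute_iff_eq, ← commutatorElement_eq_one_iff_mul_comm, ← map_commutatorElement]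
      exact (QuotientGroup.eq_one_iff _).mpr hw
    rw [map_mul]
    exact (key u (mem_sup_left (commutator_mem_commutator hu (mem_top g)))).mul_left
      (key v (mem_sup_right (commutator_mem_commutator hv (mem_top g))))
  have hcover : ∀ g : X, ∃ a ∈ A, ∃ k : ℤ, g = a * x ^ k := by
    intro g
    have h1 : zpowers ((x : X) : X ⧸ A) = ⊤ := zpowers_eq_top_of_prime_card
      (show Nat.card (X ⧸ A) = p by rw [← index_eq_card, hAi]) fun e => hx ((QuotientGroup.eq_one_iff _).mp e)
    obtain ⟨k, hk⟩ := mem_zpowers_iff.mp (h1 ▸ mem_top (g : X ⧸ A))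
    refine ⟨g * (x ^ k)⁻¹, ?_, k, by group⟩
    rw [← QuotientGroup.eq_one_iff, QuotientGroup.mk_mul, QuotientGroup.mk_inv, QuotientGroup.mk_zpow, hk,
      mul_inv_cancel]
  have hle : commutator X ≤ K := by
    rw [_root_.commutator_def, commutator_le]
    intro g _ h _
    rw [← QuotientGroup.eq_one_iff, ← QuotientGroup.mk'_apply, map_commutatorElement,
      commutatorElement_eq_one_iff_mul_comm]
    obtain ⟨a, ha, i, rfl⟩ := hcover g
    obtain ⟨b, hb, j, rfl⟩ := hcover h
    rw [map_mul, map_mul, map_zpow, map_zpow]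
    exact ((hcen a ha _).mul_left (((hcen b hb (q x ^ i)).symm).mul_right
      ((Commute.refl (q x)).zpow_zpow i j))).eq
  have h1 := Subgroup.card_le_of_le hle
  have hdK : ⁅U, (⊤ : Subgroup X)⁆ ⊓ ⁅V, (⊤ : Subgroup X)⁆ = ⊥ :=
    le_bot_iff.mp ((inf_le_inf (commutator_le_left U ⊤) (commutator_le_left V ⊤)).trans hd.le)
  have h2 : Nat.card K = Nat.card ↥⁅U, (⊤ : Subgroup X)⁆ * Nat.card ↥⁅V, (⊤ : Subgroup X)⁆ := card_sup_normal hdK
  have h3 : Nat.card A = Nat.card U * Nat.card V := by rw [← hsup]; exact card_sup_normal hd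
  have h4 := Nat.mul_le_mul (mul_card_commutator_le hX hU) (mul_card_commutator_le hX hV)
  have e1 := (commutator X).card_mul_index
  have e2 := A.card_mul_index
  rw [hidx, pow_two] at e1; rw [hAi] at e2
  rw [← h3] at h4
  have h5 : Nat.card A = Nat.card ↥(commutator X) * p :=
    Nat.eq_of_mul_eq_mul_right hp.out.pos (by rw [e2, ← e1]; ring)
  rw [h5] at h4
  rw [h2] at h1
  have h6 := Nat.mul_le_mul_left (p * p) h1
  have h7 : p * Nat.card ↥⁅U, (⊤ : Subgroup X)⁆ * (p * Nat.card ↥⁅V, (⊤ : Subgroup X)⁆) =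
      p * p * (Nat.card ↥⁅U, (⊤ : Subgroup X)⁆ * Nat.card ↥⁅V, (⊤ : Subgroup X)⁆) := by ring
  rw [h7] at h4
  have h8 := h6.trans h4
  have h9 : p * p ≤ p := le_of_mul_le_mul_left (a := Nat.card ↥(commutator X))
    (by rw [mul_comm]; exact h8) Nat.card_pos
  exact absurd h9 (not_le.mpr (lt_mul_of_one_lt_left hp.out.pos hp.out.one_lt))

omit hX in
theorem card_commutator_subtype (U : Subgroup X) : Nat.card ↥⁅U, U⁆ = Nat.card ↥(commutator U) := by
  rw [← map_subtype_commutator, card_map_of_injective U.subtype_injective]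

/-- A product of two non-trivial normal subgroups with derived subgroup of index `p ^ 2` is abelian. -/
theorem comm_of_split (hidx : (commutator X).index = p ^ 2) {U V : Subgroup X}
    [U.Normal] [V.Normal] (hU : U ≠ ⊥) (hV : V ≠ ⊥) (hd : U ⊓ V = ⊥) (hsup : U ⊔ V = ⊤) :
    ∀ a b : X, a * b = b * a := by
  have hUV : ∀ a ∈ U, ∀ b ∈ V, a * b = b * a := fun a ha b hb => commute_of_disjoint hd ha hb
  have hcent : ∀ (U V : Subgroup X) [U.Normal] [V.Normal], (∀ a ∈ U, ∀ b ∈ V, a * b = b * a) → U ⊔ V = ⊤ →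
      ⁅U, (⊤ : Subgroup X)⁆ = ⁅U, U⁆ := by
    intro U V _ _ h hs
    refine le_antisymm (commutator_le.mpr fun u hu g _ => ?_) (commutator_mono le_rfl le_top)
    obtain ⟨a, ha, b, hb, rfl⟩ := mem_sup_of_normal_right.mp (hs.symm ▸ mem_top g : g ∈ U ⊔ V)
    have : ⁅u, a * b⁆ = ⁅u, a⁆ := by
      simp only [commutatorElement_def]
      calc u * (a * b) * u⁻¹ * (a * b)⁻¹ = u * a * (b * u⁻¹) * b⁻¹ * a⁻¹ := by group
        _ = u * a * (u⁻¹ * b) * b⁻¹ * a⁻¹ := by rw [h _ (inv_mem hu) b hb]
        _ = u * a * u⁻¹ * a⁻¹ := by group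
    rw [this]; exact commutator_mem_commutator hu ha
  have hcU := hcent U V hUV hsup
  have hcV := hcent V U (fun a ha b hb => (hUV b hb a ha).symm) (by rw [sup_comm, hsup])
  have h1 : commutator X ≤ ⁅U, U⁆ ⊔ ⁅V, V⁆ := by
    rw [← hcU, ← hcV, _root_.commutator_def, commutator_le]
    intro g _ h _
    obtain ⟨a, ha, b, hb, rfl⟩ := mem_sup_of_normal_right.mp (hsup.symm ▸ mem_top g : g ∈ U ⊔ V)
    have : ⁅a * b, h⁆ = (a * ⁅b, h⁆ * a⁻¹) * ⁅a, h⁆ := by simp only [commutatorElement_def]; group
    rw [this]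
    exact mul_mem (mem_sup_right ((inferInstance : (⁅V, (⊤ : Subgroup X)⁆).Normal).conj_mem _
      (commutator_mem_commutator hb (mem_top h)) a)) (mem_sup_left (commutator_mem_commutator ha (mem_top h)))
  have h2 : Nat.card ↥(⁅U, U⁆ ⊔ ⁅V, V⁆) = Nat.card ↥⁅U, U⁆ * Nat.card ↥⁅V, V⁆ :=
    card_sup_normal (le_bot_iff.mp ((inf_le_inf (commutator_le_left U U) (commutator_le_left V V)).trans hd.le))
  have h3 : Nat.card X = Nat.card U * Nat.card V := by
    rw [← Subgroup.card_top, ← hsup]; exact card_sup_normal hd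
  have e1 := (commutator X).card_mul_index
  rw [hidx, h3] at e1
  have h4 := Subgroup.card_le_of_le h1
  rw [h2] at h4
  have eU := (commutator U).card_mul_index
  have eV := (commutator V).card_mul_index
  rw [← card_commutator_subtype] at eU eV
  have hcyc : ∀ W : Subgroup X, W ≠ ⊥ → p ≤ (commutator W).index := by
    intro W hW
    haveI : Nontrivial W := (nontrivial_iff_ne_bot W).mpr hW
    obtain ⟨k, hk⟩ := IsPGroup.index (hX.to_subgroup W) (commutator W)
    rw [hk]
    refine Nat.le_self_pow (fun h0 => commutator_ne_top (hX.to_subgroup W) ?_) p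
    rw [h0, pow_zero, index_eq_one] at hk
    exact hk
  have hiU := hcyc U hU
  have hiV := hcyc V hV
  set cU := Nat.card ↥⁅U, U⁆
  set cV := Nat.card ↥⁅V, V⁆
  set iU := (commutator U).index
  set iV := (commutator V).index
  have h5 : iU * iV ≤ p * p := by
    refine le_of_mul_le_mul_left (a := cU * cV) ?_ (Nat.mul_pos (Nat.card_pos (α := ↥⁅U, U⁆)) (Nat.card_pos (α := ↥⁅V, V⁆)))
    calc cU * cV * (iU * iV) = (cU * iU) * (cV * iV) := by ring
      _ = Nat.card ↥(commutator X) * p ^ 2 := by rw [eU, eV, e1]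
      _ ≤ cU * cV * (p * p) := by rw [pow_two]; exact Nat.mul_le_mul_right _ h4
  have hUp : iU = p := le_antisymm (Nat.le_of_mul_le_mul_right ((Nat.mul_le_mul_left iU hiV).trans h5) hp.out.pos) hiU
  have hVp : iV = p := le_antisymm (Nat.le_of_mul_le_mul_left ((Nat.mul_le_mul_right iV hiU).trans h5) hp.out.pos) hiV
  haveI := isCyclic_of_index (hX.to_subgroup U) hUp
  haveI := isCyclic_of_index (hX.to_subgroup V) hVp
  intro g h
  obtain ⟨a, ha, b, hb, rfl⟩ := mem_sup_of_normal_right.mp (hsup.symm ▸ mem_top g : g ∈ U ⊔ V)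
  obtain ⟨c, hc, d, hd', rfl⟩ := mem_sup_of_normal_right.mp (hsup.symm ▸ mem_top h : h ∈ U ⊔ V)
  have h6 : Commute a c := congrArg Subtype.val (IsCyclic.commGroup.mul_comm (⟨a, ha⟩ : U) ⟨c, hc⟩)
  have h7 : Commute b d := congrArg Subtype.val (IsCyclic.commGroup.mul_comm (⟨b, hb⟩ : V) ⟨d, hd'⟩)
  have h8 : Commute a d := hUV a ha d hd'
  have h9 : Commute b c := (hUV c hc b hb).symm
  exact ((h6.mul_right h8).mul_left (h9.mul_right h7)).eq

end Cfsg.Agent.AbelianizationSq
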