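/-
A Sylow subgroup with derived subgroup of index `p ^ 2` in a group that is not almost simple.

* `exists_small_centralizer`: some `p`-element has centralizer with `p`-part `p ^ 2`
-/
import Cfsg.Agent.Lib.AbelianizationSq.PGroup
import Cfsg.Agent.Lib.AbelianizationSq.Factor
import Cfsg.Agent.Lib.CompLen.Factors
import Cfsg.Agent.Lib.Cores.Basic
import Cfsg.Agent.Lib.Transfer.Criteria

set_option autoImplicit false
set_option linter.unusedSectionVars false
set_option linter.style.haveILetI false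

open Subgroup
open scoped commutatorElement

universe u

namespace Cfsg.Agent.AbelianizationSq

variable {G : Type u} [Group G] [Finite G] {p n : ℕ} [hp : Fact p.Prime]

theorem bot_of_coprime (hcore : Cfsg.pPrimeCore p G = ⊥) {N T : Subgroup G} [hN : N.Normal] (hTN : T ≤ N)
    (hn : N ≤ normalizer (T : Set G)) (hc : (Nat.card T).Coprime p) : T = ⊥ := by
  have hle : T.subgroupOf N ≤ Cfsg.pPrimeCore p N := Cores.le_pPrimeCore (normal_subgroupOf_iff_le_normalizer hTN |>.mpr hn) (by
    rwa [Nat.card_congr (subgroupOfEquivOfLe hTN).toEquiv])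
  haveI : (Cfsg.pPrimeCore p N).Characteristic := by
    refine characteristic_iff_map_eq.mpr fun φ => ?_
    refine Subgroup.eq_of_le_of_card_ge (Cores.map_pPrimeCore_le φ.toMonoidHom φ.surjective p) ?_
    rw [Subgroup.card_map_of_injective φ.injective]
  have hbot : (Cfsg.pPrimeCore p N).map N.subtype ≤ ⊥ := by
    rw [← hcore]
    exact Cores.le_pPrimeCore inferInstance (by
      rw [Subgroup.card_map_of_injective N.subtype_injective]; exact Cores.coprime_card_pPrimeCore p)
  refine le_bot_iff.mp (le_trans ?_ ((Subgroup.map_mono (f := N.subtype) hle).trans hbot))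
  rw [subgroupOf_map_subtype, inf_eq_left.mpr hTN]

theorem not_le_commutator (P : Sylow p G) (hcore : Cfsg.pPrimeCore p G = ⊥)
    (hcore' : (⁅(P : Subgroup G), (P : Subgroup G)⁆).normalCore = ⊥) {N : Subgroup G} [hN : N.Normal]
    (hne : N ≠ ⊥) : ¬ N.subgroupOf (P : Subgroup G) ≤ commutator ↥(P : Subgroup G) := by
  intro hle
  have h : N ⊓ (P : Subgroup G) ≤ (frattini ↥(P : Subgroup G)).map (P : Subgroup G).subtype := by
    rw [← subgroupOf_map_subtype]
    exact Subgroup.map_mono (hle.trans (PGroup.commutator_le_frattini P.isPGroup'))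
  have hMc := Transfer.hasNormalPComplement_iff_coprime.mp (Transfer.frattini_hasNormalPComplement P N h)
  set M := Cfsg.pResidual p N with hMdef
  haveI hM : M.Normal := by rw [hMdef]; infer_instance
  obtain ⟨k, hk⟩ := IsPGroup.iff_card.mp (Transfer.isPGroup_quotient_pResidual (p := p) (G := N))
  rw [← index_eq_card] at hk
  have hMN : (M.map N.subtype) = ⊥ := by
    refine bot_of_coprime hcore (N := N) (map_subtype_le M) ?_ (by
      rwa [Subgroup.card_map_of_injective N.subtype_injective])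
    intro g hg
    rw [mem_normalizer_iff_map_conj_eq]
    refine Subgroup.eq_of_le_of_card_ge ?_ (card_map_of_injective (f := (MulAut.conj g).toMonoidHom) (MulAut.conj g).injective).ge
    rintro _ ⟨_, ⟨m, hm, rfl⟩, rfl⟩
    exact ⟨(⟨g, hg⟩ : N) * m * (⟨g, hg⟩ : N)⁻¹, hM.conj_mem m hm _, rfl⟩
  rw [map_eq_bot_iff_of_injective _ N.subtype_injective] at hMN
  have hNp : IsPGroup p N := IsPGroup.of_card (n := k) (by
    have e := M.card_mul_index
    rw [hMN, card_bot, one_mul] at e
    rw [← e, ← hMN]; exact hk)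
  have hNP : N ≤ (P : Subgroup G) := by
    obtain ⟨Q, hQ⟩ := hNp.exists_le_sylow
    obtain ⟨g, rfl⟩ := MulAction.exists_smul_eq G Q P
    intro a ha
    rw [Sylow.coe_subgroup_smul]
    exact ⟨g⁻¹ * a * g, hQ (by simpa using hN.conj_mem a ha g⁻¹),
      show g * (g⁻¹ * a * g) * g⁻¹ = a by group⟩
  refine hne (le_bot_iff.mp (hcore' ▸ normal_le_normalCore.mpr ?_))
  intro a ha
  rw [← map_subtype_commutator]
  exact ⟨⟨a, hNP ha⟩, hle ha, rfl⟩

theorem index_or_top (P : Sylow p G) (hcore : Cfsg.pPrimeCore p G = ⊥)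
    (hcore' : (⁅(P : Subgroup G), (P : Subgroup G)⁆).normalCore = ⊥)
    (hidx : (commutator ↥(P : Subgroup G)).index = p ^ 2) {N : Subgroup G} [hN : N.Normal] (hne : N ≠ ⊥) :
    N.subgroupOf (P : Subgroup G) = ⊤ ∨ ((N.subgroupOf (P : Subgroup G)).index = p ∧
      commutator ↥(P : Subgroup G) ≤ N.subgroupOf (P : Subgroup G)) :=
  index_of_not_le P.isPGroup' hidx (not_le_commutator P hcore hcore' hne)

/-- Two non-trivial normal subgroups cannot be disjoint. -/
theorem inf_ne_bot (hn : 3 ≤ n) (P : Sylow p G) (hP : Nat.card (P : Subgroup G) = p ^ n)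
    (hcore : Cfsg.pPrimeCore p G = ⊥) (hcore' : (⁅(P : Subgroup G), (P : Subgroup G)⁆).normalCore = ⊥)
    (hidx : (commutator ↥(P : Subgroup G)).index = p ^ 2) {N M : Subgroup G} [N.Normal] [M.Normal]
    (hN : N ≠ ⊥) (hM : M ≠ ⊥) : N ⊓ M ≠ ⊥ := by
  intro hd
  set A := N.subgroupOf (P : Subgroup G)
  set B := M.subgroupOf (P : Subgroup G)
  have hsize : ∀ (K : Subgroup G) [K.Normal], K ≠ ⊥ → p ^ (n - 1) ≤ Nat.card (K.subgroupOf (P : Subgroup G)) := by
    intro K _ hK
    rcases index_or_top P hcore hcore' hidx hK with h | ⟨h, -⟩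
    · rw [h, card_top, hP]; exact Nat.pow_le_pow_right hp.out.pos (by omega)
    · have e := (K.subgroupOf (P : Subgroup G)).card_mul_index
      rw [h, hP, show p ^ n = p ^ (n - 1) * p by rw [← pow_succ]; congr 1; omega] at e
      exact (Nat.eq_of_mul_eq_mul_right hp.out.pos e).ge
  have hAB : A ⊓ B = ⊥ := by
    rw [eq_bot_iff]
    intro a ha
    have : (a : G) ∈ N ⊓ M := ha
    rw [hd, mem_bot] at this
    exact Subtype.ext this
  have h := (Nat.mul_le_mul (hsize N hN) (hsize M hM)).trans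
    ((card_sup_normal hAB).ge.trans (Subgroup.card_le_card_group _))
  rw [hP, ← pow_add] at h
  have := (Nat.pow_le_pow_iff_right hp.out.one_lt).mp h
  omega

/-- An element outside `A` with small centralizer in `A` has small centralizer. -/
theorem factorization_centralizer (hn : 1 ≤ n) (P : Sylow p G) (hP : Nat.card (P : Subgroup G) = p ^ n)
    (N : Subgroup G) [N.Normal] (hidx : (N.subgroupOf (P : Subgroup G)).index = p) {x : ↥(P : Subgroup G)}
    (hxP : Nat.card (centralizer ({x} : Set ↥(P : Subgroup G))) = p ^ 2)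
    (hxN : (Nat.card ↥(N ⊓ centralizer ({(x : G)} : Set G))).factorization p ≤ 1) :
    (Nat.card (centralizer ({(x : G)} : Set G))).factorization p = 2 := by
  set C := centralizer ({(x : G)} : Set G)
  refine le_antisymm ?_ ?_
  · have e := (N.subgroupOf C).card_mul_index
    have h1 : Nat.card (N.subgroupOf C) = Nat.card ↥(N ⊓ C) := Nat.card_congr
      { toFun := fun u => ⟨u.1.1, u.2, u.1.2⟩
        invFun := fun u => ⟨⟨u.1, u.2.2⟩, u.2.1⟩
        left_inv := fun _ => rfl
        right_inv := fun _ => rfl }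
    have h2 : (N.subgroupOf C).index ∣ N.index := relIndex_dvd_index_of_normal N C
    have hcN : Nat.card (N.subgroupOf (P : Subgroup G)) = p ^ (Nat.card N).factorization p := by
      rw [← MaxClassSylow.card_inf_sylow N P]
      exact Nat.card_congr
        { toFun := fun u => ⟨⟨u.1.1, u.2⟩, u.1.2⟩
          invFun := fun u => ⟨⟨u.1.1, u.2⟩, u.1.2⟩
          left_inv := fun _ => rfl
          right_inv := fun _ => rfl }
    have hfN : N.index.factorization p = 1 := by
      have e1 := (N.subgroupOf (P : Subgroup G)).card_mul_index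
      rw [hidx, hcN, hP, ← pow_succ] at e1
      have e2 := Nat.pow_right_injective hp.out.two_le e1
      have e3 := N.card_mul_index
      have e4 := congrArg (fun m => m.factorization p) e3
      simp only [Nat.factorization_mul Nat.card_pos.ne' FiniteIndex.index_ne_zero, Finsupp.add_apply] at e4
      have e5 : (Nat.card G).factorization p = n :=
        Nat.pow_right_injective hp.out.two_le (P.card_eq_multiplicity.symm.trans hP)
      omega
    rw [← e, h1, Nat.factorization_mul Nat.card_pos.ne' FiniteIndex.index_ne_zero, Finsupp.add_apply]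
    have h3 := (Nat.factorization_le_iff_dvd FiniteIndex.index_ne_zero FiniteIndex.index_ne_zero).mpr h2 p
    omega
  · refine (hp.out.pow_dvd_iff_le_factorization Nat.card_pos.ne').mp ?_
    rw [← hxP, show ({x} : Set ↥(P : Subgroup G)) = {⟨(x : G), x.2⟩} from rfl,
      MaxClassSylow.card_centralizer_subtype]
    exact Subgroup.card_dvd_of_le inf_le_right

/-- The main argument. -/
theorem exists_small_centralizer (hn : 3 ≤ n) (P : Sylow p G) (hP : Nat.card (P : Subgroup G) = p ^ n)
    (hnc : ¬ ∀ a b : ↥(P : Subgroup G), a * b = b * a)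
    (hcore : Cfsg.pPrimeCore p G = ⊥) (hcore' : (⁅(P : Subgroup G), (P : Subgroup G)⁆).normalCore = ⊥)
    (hnas : ¬ ∃ S : Subgroup G, S.Normal ∧ IsSimpleGroup S ∧ ¬ IsMulCommutative S ∧
      Subgroup.centralizer (S : Set G) = ⊥)
    (hidx : (commutator ↥(P : Subgroup G)).index = p ^ 2) :
    ∃ x : ↥(P : Subgroup G), (Nat.card (centralizer ({(x : G)} : Set G))).factorization p = 2 := by
  classical
  have hX := P.isPGroup'
  -- a minimal normal subgroup
  haveI : Nontrivial G := by
    refine (subsingleton_or_nontrivial G).resolve_left fun h => hnc fun a b => Subtype.ext (h.elim _ _)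
  obtain ⟨N, ⟨hN, hN0⟩, hNmin⟩ := (Set.toFinite {N : Subgroup G | N.Normal ∧ N ≠ ⊥}).exists_minimal
    ⟨⊤, inferInstance, top_ne_bot⟩
  have hmin : ∀ M : Subgroup G, M.Normal → M ≤ N → M ≠ ⊥ → M = N :=
    fun M hM hMN hM0 => le_antisymm hMN (hNmin ⟨hM, hM0⟩ hMN)
  set X := ↥(P : Subgroup G)
  set A := N.subgroupOf (P : Subgroup G) with hA
  by_cases hNc : IsMulCommutative N
  · -- abelian
    have hAc : ∀ a ∈ A, ∀ b ∈ A, a * b = b * a := fun a ha b hb =>
      Subtype.ext (congrArg (Subtype.val : N → G) (hNc.is_comm.comm ⟨(a : G), ha⟩ ⟨(b : G), hb⟩))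
    rcases index_or_top P hcore hcore' hidx hN0 with h | ⟨h, -⟩
    · exact absurd (fun a b => hAc a (by rw [hA, h]; exact mem_top _) b (by rw [hA, h]; exact mem_top _)) hnc
    obtain ⟨x, -, hx⟩ := SetLike.exists_of_lt (lt_top_iff_ne_top.mpr (fun e : A = ⊤ =>
      hp.out.ne_one (by rw [← h]; show A.index = 1; rw [e, index_top])))
    obtain ⟨hC, hAC⟩ := card_centralizer hX hidx h hAc hx
    refine ⟨x, factorization_centralizer (by omega) P hP N h hC ?_⟩
    -- `N` is a `p`-group
    have hcomm : ∀ a ∈ N, ∀ b ∈ N, a * b = b * a := fun a ha b hb =>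
      congrArg (Subtype.val : N → G) (hNc.is_comm.comm ⟨a, ha⟩ ⟨b, hb⟩)
    have hNp : IsPGroup p N := by
      intro g
      refine ⟨(orderOf g).factorization p, Subtype.ext ?_⟩
      rw [Subgroup.coe_pow]
      set y := (g : G) ^ p ^ (orderOf g).factorization p with hy
      have hyN : y ∈ N := pow_mem g.2 _
      have hT : zpowers y = ⊥ := by
        refine bot_of_coprime hcore (N := N) (zpowers_le.mpr hyN) ?_ ?_
        · intro c hc
          rw [mem_normalizer_iff]
          intro z
          constructor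
          · intro hz
            rwa [hcomm c hc z (zpowers_le.mpr hyN hz), mul_inv_cancel_right]
          · intro hz
            have h1 := hcomm c hc _ (zpowers_le.mpr hyN hz)
            rw [inv_mul_cancel_right, mul_right_inj] at h1
            rwa [h1] at hz
        · rw [Nat.card_zpowers, hy, orderOf_pow, Subgroup.orderOf_coe,
            Nat.gcd_eq_right (Nat.ordProj_dvd _ _)]
          exact (Nat.coprime_ordCompl hp.out (orderOf_pos g).ne').symm
      exact zpowers_eq_bot.mp hT
    obtain ⟨r, hr⟩ := IsPGroup.iff_card.mp (hNp.to_le (inf_le_left : N ⊓ centralizer ({(x : G)} : Set G) ≤ N))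
    have hle : Nat.card ↥(N ⊓ centralizer ({(x : G)} : Set G)) ≤ p := by
      have hNP : N ≤ (P : Subgroup G) := by
        obtain ⟨Q, hQ⟩ := hNp.exists_le_sylow
        obtain ⟨g, rfl⟩ := MulAction.exists_smul_eq G Q P
        intro a ha
        rw [Sylow.coe_subgroup_smul]
        exact ⟨g⁻¹ * a * g, hQ (by simpa using hN.conj_mem a ha g⁻¹),
          show g * (g⁻¹ * a * g) * g⁻¹ = a by group⟩
      refine le_trans ?_ hAC.le
      exact Nat.card_le_card_of_injective (fun u : ↥(N ⊓ centralizer ({(x : G)} : Set G)) =>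
        (⟨⟨u.1, hNP u.2.1⟩, u.2.1, mem_centralizer_singleton_iff.mpr
          (Subtype.ext (mem_centralizer_singleton_iff.mp u.2.2))⟩ : ↥(A ⊓ centralizer ({x} : Set X))))
        (fun u v e => Subtype.ext (congrArg (fun w : ↥(A ⊓ centralizer ({x} : Set X)) => ((w : X) : G)) e))
    rw [hr] at hle ⊢
    rw [hp.out.factorization_pow, Finsupp.single_eq_same]
    exact (Nat.pow_le_pow_iff_right hp.out.one_lt).mp (hle.trans (pow_one p).ge)
  -- non-abelian
  have hcen : centralizer (N : Set G) = ⊥ := by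
    by_contra hne
    refine inf_ne_bot hn P hP hcore hcore' hidx hN0 hne ?_
    by_contra h
    have h1 := hmin _ inferInstance inf_le_left h
    apply hNc
    refine ⟨⟨fun a b => Subtype.ext ?_⟩⟩
    have ha : (a : G) ∈ N ⊓ centralizer (N : Set G) := by rw [h1]; exact a.2
    exact (mem_centralizer_iff.mp ha.2 (b : G) b.2).symm
  obtain ⟨s, hs⟩ := CompLen.exists_factorSet N hN0 hmin hNc
  have hcentral : ∀ c ∈ N, (∀ T ∈ s, ∀ t ∈ T, t * c = c * t) → c = 1 := by
    intro c _ h
    have h1 : N ≤ centralizer ({c} : Set G) := by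
      rw [← hs.gen]
      exact Finset.sup_le fun T hT t ht => mem_centralizer_singleton_iff.mpr (h T hT t ht)
    have h2 : c ∈ centralizer (N : Set G) := mem_centralizer_iff.mpr fun z hz =>
      mem_centralizer_singleton_iff.mp (h1 hz)
    rwa [hcen, mem_bot] at h2
  -- splittings
  have hsupN : ∀ u : Finset (Subgroup G), u ⊆ s → u.sup id ≤ N := fun u hu =>
    Finset.sup_le fun T hT => hs.le T (hu hT)
  have hUVc : ∀ u : Finset (Subgroup G), u ⊆ s → ∀ a ∈ u.sup id, ∀ b ∈ (s \ u).sup id, a * b = b * a := by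
    intro u hu a ha b hb
    have hle : (s \ u).sup id ≤ centralizer ((u.sup id : Subgroup G) : Set G) := Finset.sup_le fun T hT z hz => by
      obtain ⟨hTs, hTu⟩ := Finset.mem_sdiff.mp hT
      rw [mem_centralizer_iff]
      intro w hw
      exact (hs.sup_commute hu hTs hTu z hz w hw).symm
    exact mem_centralizer_iff.mp (hle hb) a ha
  have hUVd : ∀ u : Finset (Subgroup G), u ⊆ s → u.sup id ⊓ (s \ u).sup id = ⊥ := by
    intro u hu
    rw [eq_bot_iff]
    intro c hc
    refine (mem_bot).mpr (hcentral c (hsupN u hu hc.1) fun T hT t ht => ?_)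
    by_cases hTu : T ∈ u
    · exact hUVc u hu t (Finset.le_sup (f := id) hTu ht) c hc.2
    · exact (hUVc u hu c hc.1 t (Finset.le_sup (f := id) (Finset.mem_sdiff.mpr ⟨hT, hTu⟩) ht)).symm
  have hUVs : ∀ u : Finset (Subgroup G), u ⊆ s → u.sup id ⊔ (s \ u).sup id = N := fun u hu => by
    rw [← Finset.sup_union, Finset.union_sdiff_of_subset hu, hs.gen]
  have hUn : ∀ u : Finset (Subgroup G), u ⊆ s → ∀ a ∈ N, a ∈ normalizer ((u.sup id : Subgroup G) : Set G) := by
    intro u hu a ha
    rw [← hUVs u hu] at ha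
    have h1 : (s \ u).sup id ≤ normalizer ((u.sup id : Subgroup G) : Set G) :=
      le_trans (fun b hb => mem_centralizer_iff.mpr fun a ha => hUVc u hu a ha b hb)
        (centralizer_le_normalizer _)
    exact sup_le le_normalizer h1 ha
  -- each factor meets the Sylow subgroup
  have hPT : ∀ T ∈ s, (P : Subgroup G) ⊓ T ≠ ⊥ := by
    intro T hT h
    have h1 := card_inf_factor P (hUVc {T} (by simpa using hT)) (hUVd {T} (by simpa using hT)) (hUVs {T} (by simpa using hT))
    rw [Finset.sup_singleton, id_eq, h, card_bot] at h1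
    have h0 : (Nat.card T).factorization p = 0 :=
      Nat.pow_right_injective hp.out.two_le (show p ^ _ = p ^ 0 by rw [pow_zero]; exact h1.symm)
    have hTb : T = ⊥ := bot_of_coprime hcore (hs.le T hT)
      (fun a ha => by simpa using hUn {T} (by simpa using hT) a ha)
      (hp.out.coprime_iff_not_dvd.mpr fun hd => by
        have := (hp.out.dvd_iff_one_le_factorization Nat.card_pos.ne').mp hd
        omega).symm
    haveI := hs.simple T hT
    haveI : Nontrivial T := IsSimpleGroup.toNontrivial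
    exact (nontrivial_iff_ne_bot T).mp inferInstance hTb
  -- at least two factors
  obtain ⟨T₀, hT₀⟩ := hs.nonempty
  have htwo : ∃ T ∈ s, T ≠ T₀ := by
    by_contra h
    push Not at h
    have hNT : N = T₀ := by
      rw [← hs.gen]
      exact le_antisymm (Finset.sup_le fun T hT => (h T hT).le) (Finset.le_sup (f := id) hT₀)
    refine hnas ⟨N, hN, ?_, hNc, hcen⟩
    rw [hNT]; exact hs.simple T₀ hT₀
  -- invariant splittings
  have hsplit : ∀ u : Finset (Subgroup G), u ⊆ s → u.Nonempty → (s \ u).Nonempty →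
      (∀ w : X, ((w : G)) ∈ normalizer ((u.sup id : Subgroup G) : Set G) ∧
        ((w : G)) ∈ normalizer (((s \ u).sup id : Subgroup G) : Set G)) → False := by
    intro u hu hu0 hv0 hinv
    set U := (u.sup id).subgroupOf (P : Subgroup G)
    set V := ((s \ u).sup id).subgroupOf (P : Subgroup G)
    have hnorm : ∀ K : Subgroup G, (∀ w : X, (w : G) ∈ normalizer (K : Set G)) → (K.subgroupOf (P : Subgroup G)).Normal :=
      fun K hK => ⟨fun a ha g => (mem_normalizer_iff.mp (hK g) _).mp ha⟩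
    haveI : U.Normal := hnorm _ fun w => (hinv w).1
    haveI : V.Normal := hnorm _ fun w => (hinv w).2
    have hnb : ∀ u : Finset (Subgroup G), u ⊆ s → u.Nonempty → (u.sup id).subgroupOf (P : Subgroup G) ≠ ⊥ := by
      rintro u hu ⟨T, hT⟩ h
      apply hPT T (hu hT)
      rw [eq_bot_iff]
      intro a ha
      have h1 : (⟨a, ha.1⟩ : X) ∈ (u.sup id).subgroupOf (P : Subgroup G) := Finset.le_sup (f := id) hT ha.2
      rw [h, mem_bot] at h1
      exact congrArg Subtype.val h1
    have hd : U ⊓ V = ⊥ := by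
      rw [eq_bot_iff]
      intro a ha
      have h1 : (a : G) ∈ u.sup id ⊓ (s \ u).sup id := ha
      rw [hUVd u hu, mem_bot] at h1
      exact Subtype.ext h1
    have hs' : U ⊔ V = A := by
      refine le_antisymm (sup_le (fun a ha => hsupN u hu ha) (fun a ha => hsupN _ Finset.sdiff_subset ha)) ?_
      intro a ha
      obtain ⟨b, hb, c, hc, hbP, hcP, hbc⟩ := split P (hUVc u hu) (hUVd u hu) (hUVs u hu) a.2 ha
      have e : a = ⟨b, hbP⟩ * ⟨c, hcP⟩ := Subtype.ext hbc.symm
      rw [e]
      exact mul_mem (mem_sup_left hb) (mem_sup_right hc)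
    rcases index_or_top P hcore hcore' hidx hN0 with h | ⟨h, -⟩
    · exact hnc (comm_of_split hX hidx (hnb u hu hu0) (hnb _ Finset.sdiff_subset hv0) hd (hs'.trans h))
    · exact false_of_split hX hidx h (hnb u hu hu0) (hnb _ Finset.sdiff_subset hv0) hd hs'
  rcases index_or_top P hcore hcore' hidx hN0 with h | ⟨hAi, hXA⟩
  · exfalso
    obtain ⟨T, hT, hTne⟩ := htwo
    refine hsplit {T₀} (by simpa using hT₀) (Finset.singleton_nonempty _)
      ⟨T, Finset.mem_sdiff.mpr ⟨hT, by simpa using hTne⟩⟩ fun w => ?_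
    have hwN : (w : G) ∈ N := (subgroupOf_eq_top.mp h) w.2
    exact ⟨hUn _ (by simpa using hT₀) _ hwN, hUn _ Finset.sdiff_subset _ hwN⟩
  obtain ⟨x, -, hx⟩ := SetLike.exists_of_lt (lt_top_iff_ne_top.mpr (fun e : A = ⊤ =>
    hp.out.ne_one (by rw [← hAi]; show A.index = 1; rw [e, index_top])))
  haveI hAn : A.Normal := inferInstance
  have hxp : ((x : G)) ^ p ∈ N := by
    have h1 := A.pow_index_mem x
    rw [show A.index = p from hAi] at h1
    exact h1
  have hfix : ∀ T ∈ s, ∀ a ∈ N, CompLen.cj a T = T := fun T hT a ha => by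
    rw [CompLen.cj_eq_iff_mem_normalizer]
    simpa using hUn {T} (by simpa using hT) a ha
  -- the orbit of `T₀`
  set o : ℕ → Subgroup G := fun i => CompLen.cj ((x : G) ^ i) T₀ with ho
  set u := (Finset.range p).image o
  have hos : ∀ i, o i ∈ s := fun i => hs.conj_mem _ _ hT₀
  have hu : u ⊆ s := fun T hT => by
    obtain ⟨i, -, rfl⟩ := Finset.mem_image.mp hT; exact hos i
  have hstep : ∀ T ∈ u, CompLen.cj (x : G) T ∈ u := by
    intro T hT
    obtain ⟨i, hi, rfl⟩ := Finset.mem_image.mp hT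
    rw [ho, ← CompLen.cj_mul, ← pow_succ']
    rw [Finset.mem_range] at hi
    rcases (Nat.lt_or_eq_of_le hi : i + 1 < p ∨ i + 1 = p) with hi' | hi'
    · exact Finset.mem_image.mpr ⟨i + 1, Finset.mem_range.mpr hi', rfl⟩
    · refine Finset.mem_image.mpr ⟨0, Finset.mem_range.mpr hp.out.pos, ?_⟩
      rw [hi', hfix _ hT₀ _ hxp, ho]
      simp [CompLen.cj_one]
  have hinj : Function.Injective (CompLen.cj (x : G)) := fun S T e => by
    have := congrArg (CompLen.cj (x : G)⁻¹) e
    rwa [← CompLen.cj_mul, ← CompLen.cj_mul, inv_mul_cancel, CompLen.cj_one, CompLen.cj_one] at this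
  have hstep' : ∀ T ∈ s \ u, CompLen.cj (x : G) T ∈ s \ u := by
    intro T hT
    obtain ⟨hTs, hTu⟩ := Finset.mem_sdiff.mp hT
    refine Finset.mem_sdiff.mpr ⟨hs.conj_mem _ _ hTs, fun h => hTu ?_⟩
    have h1 : u.image (CompLen.cj (x : G)) = u := Finset.eq_of_subset_of_card_le
      (fun S hS => by obtain ⟨R, hR, rfl⟩ := Finset.mem_image.mp hS; exact hstep R hR)
      (Finset.card_image_of_injective _ hinj).ge
    rw [← h1] at h
    obtain ⟨R, hR, hRT⟩ := Finset.mem_image.mp h
    exact hinj hRT ▸ hR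
  have hxnorm : ∀ v : Finset (Subgroup G), (∀ T ∈ v, CompLen.cj (x : G) T ∈ v) →
      (x : G) ∈ normalizer ((v.sup id : Subgroup G) : Set G) := by
    intro v hv
    rw [mem_normalizer_iff_map_conj_eq]
    refine Subgroup.eq_of_le_of_card_ge ?_ (by rw [card_map_of_injective (MulEquiv.injective _)])
    rw [map_le_iff_le_comap]
    refine Finset.sup_le fun T hT z hz => ?_
    exact Finset.le_sup (f := id) (hv T hT) (Subgroup.mem_map_of_mem _ hz)
  have hgen : ∀ w : X, ∃ a ∈ N, ∃ k : ℤ, (w : G) = a * (x : G) ^ k := by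
    intro w
    have h1 : zpowers ((x : X) : X ⧸ A) = ⊤ := zpowers_eq_top_of_prime_card
      (show Nat.card (X ⧸ A) = p by rw [← index_eq_card]; exact hAi) fun e => hx ((QuotientGroup.eq_one_iff _).mp e)
    obtain ⟨k, hk⟩ := mem_zpowers_iff.mp (h1 ▸ mem_top (w : X ⧸ A))
    have h2 : w * (x ^ k)⁻¹ ∈ A := by
      rw [← QuotientGroup.eq_one_iff, QuotientGroup.mk_mul, QuotientGroup.mk_inv, QuotientGroup.mk_zpow, hk,
        mul_inv_cancel]
    refine ⟨(w : G) * ((x : G) ^ k)⁻¹, ?_, k, by group⟩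
    have h3 := mem_subgroupOf.mp h2
    rw [Subgroup.coe_mul, Subgroup.coe_inv, Subgroup.coe_zpow] at h3
    exact h3
  have hus : u = s := by
    by_contra hne
    refine hsplit u hu ⟨o 0, Finset.mem_image.mpr ⟨0, Finset.mem_range.mpr hp.out.pos, rfl⟩⟩ ?_ fun w => ?_
    · rw [Finset.sdiff_nonempty]
      exact fun h => hne (Finset.Subset.antisymm hu h)
    · obtain ⟨a, ha, k, e⟩ := hgen w
      rw [e]
      exact ⟨mul_mem (hUn u hu a ha) (zpow_mem (hxnorm u hstep) k),
        mul_mem (hUn _ Finset.sdiff_subset a ha) (zpow_mem (hxnorm _ hstep') k)⟩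
  have hfree : ∀ i, 0 < i → i < p → o i ≠ T₀ := by
    intro i hi hip e
    obtain ⟨T, hT, hTne⟩ := htwo
    rw [← hus] at hT
    obtain ⟨j, -, rfl⟩ := Finset.mem_image.mp hT
    apply hTne
    let M := normalizer (T₀ : Set G)
    have h1 : (x : G) ^ i ∈ M := CompLen.cj_eq_iff_mem_normalizer.mp e
    have h2 : (x : G) ^ p ∈ M := CompLen.cj_eq_iff_mem_normalizer.mp (hfix _ hT₀ _ hxp)
    have h3 : (x : G) ∈ M := by
      have hc : (i : ℤ).gcd (p : ℤ) = 1 := by
        rw [Int.gcd_natCast_natCast]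
        exact ((hp.out.coprime_iff_not_dvd.mpr fun hd => absurd (Nat.le_of_dvd hi hd) (by omega))).symm
      have h4 := Int.gcd_eq_gcd_ab (i : ℤ) (p : ℤ)
      rw [hc] at h4
      rw [← zpow_one (x : G), show (1 : ℤ) = _ from h4, zpow_add, zpow_mul, zpow_mul, zpow_natCast, zpow_natCast]
      exact mul_mem (zpow_mem h1 _) (zpow_mem h2 _)
    exact CompLen.cj_eq_iff_mem_normalizer.mpr (pow_mem h3 j)
  -- the first factor and the rest
  set R := (s \ {T₀}).sup id with hR
  have hT₀s : ({T₀} : Finset (Subgroup G)) ⊆ s := by simpa using hT₀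
  have hc0 : ∀ a ∈ T₀, ∀ b ∈ R, a * b = b * a := by simpa using hUVc {T₀} hT₀s
  have hd0 : T₀ ⊓ R = ⊥ := by simpa using hUVd {T₀} hT₀s
  have hs0 : T₀ ⊔ R = N := by simpa using hUVs {T₀} hT₀s
  set Q := (P : Subgroup G) ⊓ T₀ with hQ
  -- the quotient by the derived subgroup of `A`
  set K := ⁅A, A⁆ with hK
  have hKA : K ≤ A := commutator_le_left A A
  have hKX : K ≤ commutator X := by rw [_root_.commutator_def]; exact commutator_mono le_top le_top
  set q := QuotientGroup.mk' K with hq
  have hqs : Function.Surjective q := QuotientGroup.mk'_surjective K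
  set A' := A.map q with hA'
  haveI : A'.Normal := hAn.map q hqs
  have hA'c : ∀ a ∈ A', ∀ b ∈ A', a * b = b * a := by
    rintro _ ⟨a, ha, rfl⟩ _ ⟨b, hb, rfl⟩
    rw [← commutatorElement_eq_one_iff_mul_comm, ← map_commutatorElement]
    exact (QuotientGroup.eq_one_iff _).mpr (commutator_mem_commutator ha hb)
  have hidx' : (commutator (X ⧸ K)).index = p ^ 2 := by
    have h1 : (commutator X).map q = commutator (X ⧸ K) := by
      rw [_root_.commutator_def, _root_.commutator_def, map_commutator, map_top_of_surjective _ hqs]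
    rw [← h1, index_map, QuotientGroup.ker_mk', sup_eq_left.mpr hKX, MonoidHom.range_eq_top.mpr hqs, index_top,
      mul_one, hidx]
  have hA'i : A'.index = p := by
    rw [hA', index_map, QuotientGroup.ker_mk', sup_eq_left.mpr hKA, MonoidHom.range_eq_top.mpr hqs, index_top,
      mul_one]
    exact hAi
  have hxA' : q x ∉ A' := by
    rintro ⟨a, ha, e⟩
    apply hx
    have h1 : a⁻¹ * x ∈ K := QuotientGroup.eq.mp e
    have := mul_mem ha (hKA h1)
    rwa [mul_inv_cancel_left] at this
  obtain ⟨-, hAC'⟩ := card_centralizer (hX.to_quotient K) hidx' hA'i hA'c hxA'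
  let emb : Q →* X := MonoidHom.mk' (fun t => (⟨(t : G), t.2.1⟩ : X)) (fun _ _ => rfl)
  have hembA : ∀ t : Q, emb t ∈ A := fun t => hs.le T₀ hT₀ t.2.2
  have hQA' : ∀ t : Q, q (emb t) ∈ A' := fun t => mem_map_of_mem q (hembA t)
  let D : Q →* X ⧸ K := MonoidHom.mk' (fun t => diag (q x) p (q (emb t))) (fun a b => by
    rw [map_mul, map_mul]
    exact diag_mul hA'c (q x) (hQA' a) (hQA' b) p)
  have hDr : Nat.card D.range ≤ p := by
    refine le_trans (Subgroup.card_le_of_le ?_) hAC'.le
    rintro _ ⟨t, rfl⟩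
    refine ⟨diag_mem (q x) (hQA' t) p, mem_centralizer_singleton_iff.mpr ?_⟩
    have hxpA : (q x) ^ p ∈ A' := by
      rw [← map_pow]
      exact mem_map_of_mem q hxp
    have h1 := diag_fixed hA'c hxpA (hQA' t)
    show diag (q x) p (q (emb t)) * q x = q x * diag (q x) p (q (emb t))
    conv_lhs => rw [← h1]
    rw [inv_mul_cancel_right]
  -- the kernel
  have hker : D.ker ≤ commutator Q := by
    intro t ht
    have h1 : diag x p (emb t) ∈ K := by
      rw [← QuotientGroup.eq_one_iff]
      show q (diag x p (emb t)) = 1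
      rw [map_diag]; exact ht
    -- the first component
    have h2 : ∃ r ∈ R, ((diag x p (emb t) : X) : G) = (t : G) * r := by
      have hmemu : ∀ m j, j < m → o j ≤ ((Finset.range m).image o).sup id := fun m j hj =>
        Finset.le_sup (f := id) (Finset.mem_image.mpr ⟨j, Finset.mem_range.mpr hj, rfl⟩)
      have ho' : ∀ j, ∀ z ∈ o j, (MulAut.conj (x : G)).toMonoidHom z ∈ o (j + 1) := by
        intro j z hz
        simp only [ho] at hz ⊢
        rw [pow_succ', CompLen.cj_mul]
        exact Subgroup.mem_map_of_mem _ hz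
      have key : ∀ i, i < p → ((diag x i (emb t) : X) : G) ∈ ((Finset.range i).image o).sup id := by
        intro i
        induction i with
        | zero => exact fun _ => one_mem _
        | succ i ih =>
          intro hi
          have h := ih (by omega)
          refine mul_mem (hmemu (i + 1) 0 (by omega) (by show (t : G) ∈ o 0; simpa [ho, CompLen.cj_one] using t.2.2)) ?_
          have hmap : (((Finset.range i).image o).sup id).map (MulAut.conj (x : G)).toMonoidHom ≤
              ((Finset.range (i + 1)).image o).sup id := by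
            rw [map_le_iff_le_comap]
            refine Finset.sup_le fun T hT z hz => ?_
            obtain ⟨j, hj, rfl⟩ := Finset.mem_image.mp hT
            exact hmemu (i + 1) (j + 1) (by have := Finset.mem_range.mp hj; omega) (ho' j z hz)
          exact hmap ⟨_, h, rfl⟩
      obtain ⟨i, hi⟩ : ∃ i, p = i + 1 := ⟨p - 1, by have := hp.out.one_lt; omega⟩
      refine ⟨(x : G) * (diag x i (emb t) : X) * (x : G)⁻¹, ?_, ?_⟩
      · have hle : (((Finset.range i).image o).sup id).map (MulAut.conj (x : G)).toMonoidHom ≤ R := by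
          rw [map_le_iff_le_comap]
          refine Finset.sup_le fun T hT z hz => ?_
          obtain ⟨j, hj, rfl⟩ := Finset.mem_image.mp hT
          have hj' := Finset.mem_range.mp hj
          refine Finset.le_sup (f := id) (Finset.mem_sdiff.mpr ⟨hos (j + 1), by
            rw [Finset.mem_singleton]; exact hfree (j + 1) (by omega) (by omega)⟩) ?_
          exact ho' j z hz
        exact hle ⟨_, key i (by omega), rfl⟩
      · subst hi; rfl
    obtain ⟨r, hr, hrt⟩ := h2
    -- commutators of `A`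
    have hQ'R : ∀ a ∈ ⁅Q, Q⁆, ∀ b ∈ R, a * b = b * a := fun a ha b hb =>
      hc0 a (Subgroup.commutator_le_self Q ha).2 b hb
    have h3 : K.map (P : Subgroup G).subtype ≤ pairs ⁅Q, Q⁆ R hQ'R := by
      rw [hK, map_commutator, commutator_le]
      rintro _ ⟨a, ha, rfl⟩ _ ⟨b, hb, rfl⟩
      obtain ⟨a1, ha1, a2, ha2, ha1P, -, hae⟩ := split P hc0 hd0 hs0 a.2 ha
      obtain ⟨b1, hb1, b2, hb2, hb1P, -, hbe⟩ := split P hc0 hd0 hs0 b.2 hb
      refine ⟨⁅a1, b1⁆, commutator_mem_commutator ⟨ha1P, ha1⟩ ⟨hb1P, hb1⟩, ⁅a2, b2⁆,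
        mul_mem (mul_mem (mul_mem ha2 hb2) (inv_mem ha2)) (inv_mem hb2), ?_⟩
      show _ = ⁅(a : G), (b : G)⁆
      rw [← hae, ← hbe]
      have c1 : Commute a1 a2 := hc0 a1 ha1 a2 ha2
      have c2 : Commute b1 b2 := hc0 b1 hb1 b2 hb2
      have c3 : Commute a2 b1 := (hc0 b1 hb1 a2 ha2).symm
      have c4 : Commute a1 b2 := hc0 a1 ha1 b2 hb2
      simp only [commutatorElement_def, mul_inv_rev]
      symm
      calc a1 * a2 * (b1 * b2) * (a2⁻¹ * a1⁻¹) * (b2⁻¹ * b1⁻¹)
          = a1 * (a2 * b1) * b2 * a2⁻¹ * a1⁻¹ * b2⁻¹ * b1⁻¹ := by group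
        _ = a1 * b1 * (a2 * b2 * a2⁻¹) * (a1⁻¹ * (b2⁻¹ * b1⁻¹)) := by rw [c3.eq]; group
        _ = a1 * b1 * (a2 * b2 * a2⁻¹) * (a1⁻¹ * (b1⁻¹ * b2⁻¹)) := by rw [(c2.inv_inv).eq]
        _ = a1 * b1 * ((a2 * b2 * a2⁻¹) * (a1⁻¹ * b1⁻¹)) * b2⁻¹ := by group
        _ = a1 * b1 * ((a1⁻¹ * b1⁻¹) * (a2 * b2 * a2⁻¹)) * b2⁻¹ := by
          rw [(hc0 _ (mul_mem (inv_mem ha1) (inv_mem hb1)) _ (mul_mem (mul_mem ha2 hb2) (inv_mem ha2))).symm]
        _ = _ := by group
    obtain ⟨w, hw, r', hr', hwr⟩ := h3 ⟨_, h1, rfl⟩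
    have h4 := eq_of_mul_eq hd0 t.2.2 (Subgroup.commutator_le_self Q hw).2 hr hr' (hrt.symm.trans hwr.symm)
    rw [← map_subtype_commutator] at hw
    obtain ⟨w', hw', hwe⟩ := hw
    have : w' = t := Subtype.ext (hwe.trans h4.1.symm)
    rwa [this] at hw'
  -- `Q` has order `p`
  have hQp : IsPGroup p Q := hX.to_le inf_le_left
  haveI hQnt : Nontrivial Q := (nontrivial_iff_ne_bot Q).mpr (hPT T₀ hT₀)
  have hQcard : Nat.card Q = p := by
    have h1 : (commutator Q).index = p := by
      obtain ⟨k, hk⟩ := IsPGroup.index hQp (commutator Q)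
      refine le_antisymm ?_ ?_
      · refine le_trans (Nat.le_of_dvd ?_ (index_dvd_of_le hker)) ?_
        · exact Nat.pos_of_ne_zero FiniteIndex.index_ne_zero
        · rw [Subgroup.index_ker]; exact hDr
      · rw [hk]
        refine Nat.le_self_pow (fun h0 => commutator_ne_top hQp ?_) p
        rw [h0, pow_zero, index_eq_one] at hk
        exact hk
    haveI := isCyclic_of_index hQp h1
    have hb : commutator Q = ⊥ := by
      rw [_root_.commutator_def, eq_bot_iff, commutator_le]
      intro a _ b _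
      rw [mem_bot, commutatorElement_eq_one_iff_mul_comm]
      exact IsCyclic.commGroup.mul_comm a b
    rw [hb, index_bot] at h1
    exact h1
  haveI := isCyclic_of_prime_card (p := p) hQcard
  -- `A` is abelian
  have hQT : ∀ T ∈ s, ∀ a ∈ (P : Subgroup G) ⊓ T, ∀ b ∈ (P : Subgroup G) ⊓ T, a * b = b * a := by
    intro T hT a ha b hb
    rw [← hus] at hT
    obtain ⟨j, -, rfl⟩ := Finset.mem_image.mp hT
    have key : ∀ a ∈ (P : Subgroup G) ⊓ o j, ((x : G) ^ j)⁻¹ * a * (x : G) ^ j ∈ Q := fun a ha =>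
      Subgroup.mem_inf.mpr ⟨(P : Subgroup G).mul_mem ((P : Subgroup G).mul_mem ((P : Subgroup G).inv_mem ((P : Subgroup G).pow_mem x.2 j)) ha.1)
        ((P : Subgroup G).pow_mem x.2 j), CompLen.mem_cj.mp ha.2⟩
    have h1 := congrArg (Subtype.val : Q → G) (IsCyclic.commGroup.mul_comm (⟨_, key a ha⟩ : Q) ⟨_, key b hb⟩)
    simp only [Subgroup.coe_mul] at h1
    calc a * b = (x : G) ^ j * ((((x : G) ^ j)⁻¹ * a * (x : G) ^ j) * (((x : G) ^ j)⁻¹ * b * (x : G) ^ j)) *
          ((x : G) ^ j)⁻¹ := by group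
      _ = _ := by rw [h1]; group
  have hAc : ∀ a ∈ A, ∀ b ∈ A, a * b = b * a := by
    intro a ha b hb
    refine Subtype.ext (commutatorElement_eq_one_iff_mul_comm.mp (hcentral _ ?_ fun T hT t ht => ?_))
    · exact (show ⁅a, b⁆ ∈ A from mul_mem (mul_mem (mul_mem ha hb) (inv_mem ha)) (inv_mem hb))
    · have hTs : ({T} : Finset (Subgroup G)) ⊆ s := by simpa using hT
      have hc1 : ∀ a ∈ T, ∀ b ∈ (s \ {T}).sup id, a * b = b * a := by simpa using hUVc {T} hTs
      have hd1 : T ⊓ (s \ {T}).sup id = ⊥ := by simpa using hUVd {T} hTs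
      have hs1 : T ⊔ (s \ {T}).sup id = N := by simpa using hUVs {T} hTs
      obtain ⟨a1, ha1, a2, ha2, ha1P, -, hae⟩ := split P hc1 hd1 hs1 a.2 ha
      obtain ⟨b1, hb1, b2, hb2, hb1P, -, hbe⟩ := split P hc1 hd1 hs1 b.2 hb
      have c0 : Commute a1 b1 := hQT T hT a1 ⟨ha1P, ha1⟩ b1 ⟨hb1P, hb1⟩
      have c4 : Commute a1 b2 := hc1 a1 ha1 b2 hb2
      have c3 : Commute b1 a2 := hc1 b1 hb1 a2 ha2
      have hmem : ⁅(a : G), (b : G)⁆ ∈ (s \ {T}).sup id := by
        rw [← hae, ← hbe]
        have e : ⁅a1 * a2, b1 * b2⁆ = ⁅a2, b2⁆ := by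
          have d1 : Commute a1 (b1 * b2) := c0.mul_right c4
          have d2 : Commute b1 a2 := c3
          simp only [commutatorElement_def, mul_inv_rev]
          calc a1 * a2 * (b1 * b2) * (a2⁻¹ * a1⁻¹) * (b2⁻¹ * b1⁻¹)
              = a1 * (a2 * b1) * b2 * a2⁻¹ * (a1⁻¹ * (b1 * b2)⁻¹) := by group
            _ = a1 * (b1 * a2) * b2 * a2⁻¹ * ((b1 * b2)⁻¹ * a1⁻¹) := by rw [d2.eq, d1.inv_inv.eq]
            _ = a1 * (b1 * ((a2 * b2 * a2⁻¹ * b2⁻¹) * b1⁻¹)) * a1⁻¹ := by group
            _ = a1 * (b1 * (b1⁻¹ * (a2 * b2 * a2⁻¹ * b2⁻¹))) * a1⁻¹ := by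
              rw [hc1 _ (inv_mem hb1) _ (mul_mem (mul_mem (mul_mem ha2 hb2) (inv_mem ha2)) (inv_mem hb2))]
            _ = a1 * (a2 * b2 * a2⁻¹ * b2⁻¹) * a1⁻¹ := by group
            _ = _ := by
              rw [hc1 _ ha1 _ (mul_mem (mul_mem (mul_mem ha2 hb2) (inv_mem ha2)) (inv_mem hb2)), mul_inv_cancel_right]
        rw [e]
        exact mul_mem (mul_mem (mul_mem ha2 hb2) (inv_mem ha2)) (inv_mem hb2)
      exact hc1 t ht _ hmem
  obtain ⟨hC, -⟩ := card_centralizer hX hidx hAi hAc hx
  refine ⟨x, factorization_centralizer (by omega) P hP N hAi hC ?_⟩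
  -- the centralizer in `N` embeds in `T₀`
  set C := N ⊓ centralizer ({(x : G)} : Set G)
  have hCR : ∀ c ∈ C, c ∈ R → c = 1 := by
    intro c hc hcR
    refine hcentral c hc.1 fun T hT t ht => ?_
    rw [← hus] at hT
    obtain ⟨j, -, rfl⟩ := Finset.mem_image.mp hT
    have h1 := hc0 _ (CompLen.mem_cj.mp ht) c hcR
    have h2 : Commute c ((x : G) ^ j) := (show Commute c (x : G) from
      mem_centralizer_singleton_iff.mp hc.2).pow_right j
    calc t * c = (x : G) ^ j * (((x : G) ^ j)⁻¹ * t * (x : G) ^ j * ((((x : G) ^ j)⁻¹ * c) * (x : G) ^ j)) *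
          ((x : G) ^ j)⁻¹ := by group
      _ = (x : G) ^ j * (((x : G) ^ j)⁻¹ * t * (x : G) ^ j * c) * ((x : G) ^ j)⁻¹ := by
          rw [mul_assoc (((x : G) ^ j)⁻¹) c, h2.eq, inv_mul_cancel_left]
      _ = (x : G) ^ j * (c * (((x : G) ^ j)⁻¹ * t * (x : G) ^ j)) * ((x : G) ^ j)⁻¹ := by rw [h1]
      _ = ((x : G) ^ j * c) * ((x : G) ^ j)⁻¹ * t := by group
      _ = c * t := by rw [← h2.eq, mul_inv_cancel_right]
  haveI hRn : (R.subgroupOf N).Normal := (normal_subgroupOf_iff_le_normalizer (hsupN _ Finset.sdiff_subset)).mpr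
    fun a ha => hUn _ Finset.sdiff_subset a ha
  have hdvd : Nat.card C ∣ Nat.card T₀ := by
    let f : C →* N ⧸ R.subgroupOf N := (QuotientGroup.mk' _).comp (Subgroup.inclusion inf_le_left)
    have hf : Function.Injective f := by
      rw [injective_iff_map_eq_one]
      intro c hc
      exact Subtype.ext (hCR c c.2 ((QuotientGroup.eq_one_iff (N := R.subgroupOf N) (Subgroup.inclusion inf_le_left c)).mp hc))
    have h1 := Subgroup.card_dvd_of_injective f hf
    rw [← index_eq_card] at h1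
    refine h1.trans (dvd_of_eq ?_)
    have e := (R.subgroupOf N).card_mul_index
    have hNc' : Nat.card N = Nat.card R * Nat.card T₀ := by
      rw [mul_comm, ← card_sup_commute hc0 hd0, hs0]
    rw [Nat.card_congr (subgroupOfEquivOfLe (hsupN _ Finset.sdiff_subset)).toEquiv, hNc'] at e
    exact Nat.eq_of_mul_eq_mul_left Nat.card_pos e
  have hT₀f : (Nat.card T₀).factorization p = 1 := by
    have h1 := card_inf_factor P hc0 hd0 hs0
    exact Nat.pow_right_injective hp.out.two_le ((h1.symm.trans hQcard).trans (pow_one p).symm)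
  rw [← hT₀f]
  exact (Nat.factorization_le_iff_dvd Nat.card_pos.ne' Nat.card_pos.ne').mpr hdvd p

end Cfsg.Agent.AbelianizationSq
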